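import Mathlib
import Cfsg.Prelude.Def_Local
import Cfsg.Agent.Lib.ConjFunctor.Basic
import Cfsg.Agent.Lib.PGroup.Critical

/-!
Two distinct conjugates of a tightly embedded subgroup: Sylow subgroups of the mutual normalizers.
-/

set_option autoImplicit false

namespace Cfsg.Agent.Lib.TightPair

open Subgroup
open Cfsg.Agent.Lib.ConjFunctor (cj mem_cj cj_le_iff cj_mono)
open scoped commutatorElement

variable {G : Type*} [Group G] [Finite G]

/-- A subgroup all whose nontrivial 2-elements only lie in itself among its conjugates. -/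
def Tight (A : Subgroup G) : Prop :=
  ∀ y : G, y ∉ Subgroup.normalizer (A : Set G) → Odd (Nat.card ↥(A ⊓ cj y A))

theorem eq_bot_of_odd {X Y : Subgroup G} (hX : IsPGroup 2 X) (hXY : X ≤ Y)
    (hY : Odd (Nat.card Y)) : X = ⊥ := by
  haveI : Fact (Nat.Prime 2) := ⟨Nat.prime_two⟩
  rcases hX.card_eq_or_dvd with h | h
  · exact Subgroup.eq_bot_of_card_eq _ h
  · exact absurd (h.trans (Subgroup.card_dvd_of_le hXY)) (Nat.odd_iff.mp hY |> fun h1 => by omega)

theorem normalizer_le {A X : Subgroup G} (hA : Tight A) (hX : IsPGroup 2 X) (hXA : X ≤ A)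
    (hne : X ≠ ⊥) : Subgroup.normalizer (X : Set G) ≤ Subgroup.normalizer (A : Set G) := by
  intro y hy
  by_contra h
  refine hne (eq_bot_of_odd hX (le_inf hXA ?_) (hA y h))
  calc X = cj y X := (ConjFunctor.mem_normalizer_iff_cj.mp hy).symm
    _ ≤ _ := cj_mono y hXA

variable (A B T S : Subgroup G)

/-- The partner of `T` in `A`. -/
def partner : Subgroup G := S ⊓ Subgroup.normalizer (T : Set G) ⊓ A

theorem main (hAeven : Even (Nat.card A)) (hB : Tight B)
    (hAB : Odd (Nat.card ↥(A ⊓ B))) (hT : IsPGroup 2 T) (hTB : T ≤ B)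
    (hTA : T ≤ Subgroup.normalizer (A : Set G)) (hTne : T ≠ ⊥)
    (hTmax : ∀ X : Subgroup G, X ≤ B → X ≤ Subgroup.normalizer (A : Set G) → IsPGroup 2 X →
      T ≤ X → X = T)
    (hTS : T ≤ S) (hS : IsPGroup 2 S) (hSle : S ≤ A ⊔ T) (hSi : ¬ 2 ∣ S.relIndex (A ⊔ T)) :
    T ⊓ A = ⊥ ∧ ⁅T, partner A T S⁆ = ⊥ ∧
      T ⊔ partner A T S = S ⊓ Subgroup.normalizer (T : Set G) ∧
      partner A T S ≠ ⊥ ∧ partner A T S ≤ Subgroup.normalizer (B : Set G) ∧
      ((∃ φ : T →* partner A T S, Function.Injective φ) ∨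
        ¬ 2 ∣ (partner A T S).relIndex A) := by
  haveI : Fact (Nat.Prime 2) := ⟨Nat.prime_two⟩
  set R := partner A T S with hR
  have hRdef : R = S ⊓ Subgroup.normalizer (T : Set G) ⊓ A := rfl
  have hRA : R ≤ A := inf_le_right
  have hRT : R ≤ Subgroup.normalizer (T : Set G) := inf_le_left.trans inf_le_right
  have hRS : R ≤ S := inf_le_left.trans inf_le_left
  have hTA' : T ⊓ A = ⊥ :=
    eq_bot_of_odd (hT.to_le inf_le_left) (le_inf inf_le_right (inf_le_left.trans hTB)) hAB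
  have hcomm : ⁅T, R⁆ = ⊥ := by
    rw [eq_bot_iff, ← hTA', commutator_le]
    intro t ht r hr
    refine mem_inf.mpr ⟨?_, ?_⟩
    · rw [commutatorElement_def, mul_assoc, mul_assoc]
      refine T.mul_mem ht ?_
      rw [← mul_assoc]
      exact (mem_normalizer_iff.mp (hRT hr) t⁻¹).mp (T.inv_mem ht)
    · rw [commutatorElement_def]
      exact A.mul_mem ((mem_normalizer_iff.mp (hTA ht) r).mp (hRA hr)) (A.inv_mem (hRA hr))
  have hdecomp : ∀ y ∈ S, ∃ q ∈ S ⊓ A, ∃ t ∈ T, y = q * t := by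
    intro y hy
    have hy' : y ∈ ((A ⊔ T : Subgroup G) : Set G) := hSle hy
    rw [coe_mul_of_right_le_normalizer_left A T hTA] at hy'
    obtain ⟨q, hq, t, ht, rfl⟩ := hy'
    exact ⟨q, mem_inf.mpr ⟨(S.mul_mem_cancel_right (hTS ht)).mp hy, hq⟩, t, ht, rfl⟩
  have hcommute : ∀ t ∈ T, ∀ r ∈ R, t * r = r * t := fun t ht r hr => by
    have h := commutator_mem_commutator ht hr
    rw [hcomm, mem_bot, commutatorElement_eq_one_iff_mul_comm] at h
    exact h
  have hsup : T ⊔ R = S ⊓ Subgroup.normalizer (T : Set G) := by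
    refine le_antisymm (sup_le (le_inf hTS le_normalizer) inf_le_left) fun y hy => ?_
    obtain ⟨hyS, hyN⟩ := mem_inf.mp hy
    obtain ⟨q, hq, t, ht, rfl⟩ := hdecomp y hyS
    have hqN : q ∈ Subgroup.normalizer (T : Set G) :=
      ((Subgroup.normalizer (T : Set G)).mul_mem_cancel_right (Subgroup.le_normalizer ht)).mp hyN
    exact (T ⊔ R).mul_mem
      (mem_sup_right (mem_inf.mpr ⟨mem_inf.mpr ⟨(mem_inf.mp hq).1, hqN⟩, (mem_inf.mp hq).2⟩))
      (mem_sup_left ht)
  -- `S ∩ A` is a Sylow subgroup of `A`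
  have hSAi : ¬ 2 ∣ (S ⊓ A).relIndex A := by
    refine ConjFunctor.not_dvd_relIndex_of_max inf_le_right (hS.to_le inf_le_left)
      fun Q hQA hQp hle => ?_
    refine (Subgroup.eq_of_le_of_card_ge hle ?_).symm
    obtain ⟨h, hh, hhle⟩ := ConjFunctor.exists_conj_le (hQA.trans le_sup_left) hQp hSle hS hSi
    rw [← ConjFunctor.card_cj h Q]
    refine Subgroup.card_le_of_le (le_inf hhle ?_)
    have hn : h ∈ Subgroup.normalizer (A : Set G) := (sup_le Subgroup.le_normalizer hTA) hh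
    exact (cj_mono h hQA).trans (ConjFunctor.mem_normalizer_iff_cj.mp hn).le
  have hSAne : S ⊓ A ≠ ⊥ := by
    intro h
    rw [h, Subgroup.relIndex_bot_left] at hSAi
    exact hSAi hAeven.two_dvd
  have hRne : R ≠ ⊥ := by
    haveI : ((S ⊓ A).subgroupOf S).Normal := by
      refine normal_subgroupOf_of_le_normalizer fun s hs => ?_
      rw [ConjFunctor.mem_normalizer_iff_cj, ConjFunctor.cj_inf,
        ConjFunctor.mem_normalizer_iff_cj.mp (Subgroup.le_normalizer hs),
        ConjFunctor.mem_normalizer_iff_cj.mp ((sup_le Subgroup.le_normalizer hTA) (hSle hs))]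
    obtain ⟨z, hz, hzc, hz1⟩ := Critical.exists_center_mem hS (N := (S ⊓ A).subgroupOf S) (by
      rw [Ne, subgroupOf_eq_bot, disjoint_iff]
      rwa [inf_eq_left.mpr (inf_le_left : S ⊓ A ≤ S)])
    intro h
    have hzN : (z : G) ∈ Subgroup.normalizer (T : Set G) := by
      rw [mem_normalizer_iff]
      have hzc' : ∀ y ∈ S, y * (z : G) = z * y := fun y hy =>
        congrArg Subtype.val (mem_center_iff.mp hzc ⟨y, hy⟩)
      intro y
      constructor
      · intro hy
        rwa [← hzc' y (hTS hy), mul_inv_cancel_right]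
      · intro hy
        have hyS : y ∈ S := by
          have := S.mul_mem (S.mul_mem (S.inv_mem z.2) (hTS hy)) z.2
          simpa [mul_assoc] using this
        rwa [← hzc' y hyS, mul_inv_cancel_right] at hy
    have hzR : (z : G) ∈ R := mem_inf.mpr ⟨mem_inf.mpr ⟨z.2, hzN⟩, (mem_inf.mp (mem_subgroupOf.mp hz)).2⟩
    rw [h, mem_bot] at hzR
    exact hz1 (Subtype.ext hzR)
  have hRB : R ≤ Subgroup.normalizer (B : Set G) := hRT.trans (normalizer_le hB hT hTB hTne)
  refine ⟨hTA', hcomm, hsup, hRne, hRB, ?_⟩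
  by_cases hfull : S ≤ Subgroup.normalizer (T : Set G)
  · right
    rwa [hRdef, inf_eq_left.mpr hfull]
  left
  set W := S ⊓ Subgroup.normalizer (T : Set G) with hW
  have hWlt : W < S := lt_of_le_of_ne inf_le_left fun h => hfull (inf_eq_left.mp h)
  obtain ⟨s, hs, hsW⟩ := SetLike.exists_of_lt (ConjFunctor.lt_inf_normalizer hS hWlt)
  obtain ⟨hsS, hsN⟩ := mem_inf.mp hs
  have hsB : s ∉ Subgroup.normalizer (B : Set G) := by
    intro hsB
    refine hsW (mem_inf.mpr ⟨hsS, ?_⟩)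
    have hsA : s ∈ Subgroup.normalizer (A : Set G) := (sup_le Subgroup.le_normalizer hTA) (hSle hsS)
    have hTle : cj s T ≤ W := by
      refine (cj_mono s (le_inf hTS le_normalizer)).trans ?_
      exact (ConjFunctor.mem_normalizer_iff_cj.mp hsN).le
    have hWB : W ⊓ B = T := hTmax _ inf_le_right
      (inf_le_left.trans (inf_le_left.trans (hSle.trans (sup_le Subgroup.le_normalizer hTA))))
      (hS.to_le (inf_le_left.trans inf_le_left)) (le_inf (le_inf hTS le_normalizer) hTB)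
    rw [ConjFunctor.mem_normalizer_iff_cj]
    refine Subgroup.eq_of_le_of_card_ge ?_ ?_
    · rw [← hWB]
      refine le_inf ((cj_mono s ?_).trans (ConjFunctor.mem_normalizer_iff_cj.mp hsN).le)
        ((cj_mono s inf_le_right).trans (ConjFunctor.mem_normalizer_iff_cj.mp hsB).le)
      exact inf_le_left
    · rw [ConjFunctor.card_cj]
  have hex : ∀ x : T, ∃ b : R, ∃ a ∈ T, s * (x : G) * s⁻¹ = a * b := by
    intro x
    have hmem : s * (x : G) * s⁻¹ ∈ ((T ⊔ R : Subgroup G) : Set G) := by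
      rw [hsup]
      exact (mem_normalizer_iff.mp hsN _).mp (mem_inf.mpr ⟨hTS x.2, Subgroup.le_normalizer x.2⟩)
    rw [coe_mul_of_right_le_normalizer_left T R hRT] at hmem
    obtain ⟨a, ha, b, hb, he⟩ := hmem
    exact ⟨⟨b, hb⟩, a, ha, he.symm⟩
  have huniq : ∀ a ∈ T, ∀ b ∈ R, ∀ a' ∈ T, ∀ b' ∈ R, a * b = a' * b' → b = b' := by
    intro a ha b hb a' ha' b' hb' h
    have h3 : a'⁻¹ * a = b' * b⁻¹ := by
      rw [eq_mul_inv_iff_mul_eq, mul_assoc, h, inv_mul_cancel_left]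
    have h4 : b' * b⁻¹ ∈ (T ⊓ A : Subgroup G) :=
      mem_inf.mpr ⟨h3 ▸ T.mul_mem (T.inv_mem ha') ha, hRA (R.mul_mem hb' (R.inv_mem hb))⟩
    rw [hTA', mem_bot, mul_inv_eq_one] at h4
    exact h4.symm
  choose b hb using hex
  refine ⟨MonoidHom.mk' b fun x y => Subtype.ext ?_, ?_⟩
  · obtain ⟨a₁, ha₁, e₁⟩ := hb x
    obtain ⟨a₂, ha₂, e₂⟩ := hb y
    obtain ⟨a₃, ha₃, e₃⟩ := hb (x * y)
    refine huniq a₃ ha₃ _ (b (x * y)).2 (a₁ * a₂) (T.mul_mem ha₁ ha₂) _
      (R.mul_mem (b x).2 (b y).2) ?_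
    rw [← e₃]
    calc s * ((x * y : T) : G) * s⁻¹ = (s * x * s⁻¹) * (s * y * s⁻¹) := by
          rw [Subgroup.coe_mul]; group
      _ = a₁ * ((b x : G) * a₂) * b y := by rw [e₁, e₂]; group
      _ = a₁ * (a₂ * (b x : G)) * b y := by rw [hcommute a₂ ha₂ _ (b x).2]
      _ = a₁ * a₂ * ((b x : G) * b y) := by group
  · rw [injective_iff_map_eq_one]
    intro x hx
    obtain ⟨a, ha, he⟩ := hb x
    have hb1 : b x = 1 := hx
    rw [hb1, Subgroup.coe_one, mul_one] at he
    have hbot : T ⊓ cj s T = ⊥ := eq_bot_of_odd (hT.to_le inf_le_left)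
      (inf_le_inf hTB (cj_mono s hTB)) (hB s hsB)
    have hmem : s * (x : G) * s⁻¹ ∈ T ⊓ cj s T :=
      mem_inf.mpr ⟨he ▸ ha, ConjFunctor.conj_mem_cj x.2⟩
    rw [hbot, mem_bot, conj_eq_one_iff] at hmem
    exact Subtype.ext hmem

theorem tight_cj {A : Subgroup G} (hA : Tight A) (g : G) : Tight (cj g A) := by
  intro y hy
  have h1 : g⁻¹ * y * g ∉ Subgroup.normalizer (A : Set G) := fun h => hy (by
    have h2 := ConjFunctor.conj_mem_normalizer_cj (a := g) h
    rwa [show g * (g⁻¹ * y * g) * g⁻¹ = y by group] at h2)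
  have h3 := hA _ h1
  rwa [← ConjFunctor.card_cj g, ConjFunctor.cj_inf, ConjFunctor.cj_cj,
    show g * (g⁻¹ * y * g) = y * g by group, ← ConjFunctor.cj_cj] at h3

theorem partner_iso {A : Subgroup G} (hA : Tight A) (hAeven : Even (Nat.card A)) (g : G)
    (hg : g ∉ Subgroup.normalizer (A : Set G)) (T : Subgroup G) (hTne : T ≠ ⊥)
    (hT : T ≤ cj g A ⊓ Subgroup.normalizer (A : Set G)) (hTp : IsPGroup 2 T)
    (hTi : ¬ 2 ∣ T.relIndex (cj g A ⊓ Subgroup.normalizer (A : Set G)))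
    (S : Subgroup G) (hTS : T ≤ S) (hS : S ≤ A ⊔ T) (hSp : IsPGroup 2 S)
    (hSi : ¬ 2 ∣ S.relIndex (A ⊔ T)) :
    T ⊓ A = ⊥ ∧ ⁅T, partner A T S⁆ = ⊥ ∧
      T ⊔ partner A T S = S ⊓ Subgroup.normalizer (T : Set G) ∧
      Nonempty (partner A T S ≃* T) := by
  haveI : Fact (Nat.Prime 2) := ⟨Nat.prime_two⟩
  set B := cj g A with hBdef
  set V := B ⊓ Subgroup.normalizer (A : Set G) with hV
  have hB : Tight B := tight_cj hA g
  have hBeven : Even (Nat.card B) := by rw [hBdef, ConjFunctor.card_cj]; exact hAeven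
  have hAB : Odd (Nat.card ↥(A ⊓ B)) := hA g hg
  have hTmax : ∀ X : Subgroup G, X ≤ B → X ≤ Subgroup.normalizer (A : Set G) → IsPGroup 2 X →
      T ≤ X → X = T := fun X hXB hXA hX hle =>
    (ConjFunctor.eq_of_sylow_le (le_inf hXB hXA) hX hle hTi).symm
  obtain ⟨hTA', hcomm, hsup, hRne, hRB, halt⟩ := main A B T S hAeven hB hAB hTp
    (hT.trans inf_le_left) (hT.trans inf_le_right) hTne hTmax hTS hSp hS hSi
  set R := partner A T S with hR
  refine ⟨hTA', hcomm, hsup, ?_⟩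
  have hRp : IsPGroup 2 R := hSp.to_le (inf_le_left.trans inf_le_left)
  have hRA : R ≤ A := inf_le_right
  set U := A ⊓ Subgroup.normalizer (B : Set G) with hU
  have hRU : R ≤ U := le_inf hRA hRB
  -- the symmetric step
  have sym : ∀ R' : Subgroup G, R' ≤ U → IsPGroup 2 R' → R' ≠ ⊥ →
      (∀ X : Subgroup G, X ≤ A → X ≤ Subgroup.normalizer (B : Set G) → IsPGroup 2 X → R' ≤ X →
        X = R') →
      ∀ S' : Subgroup G, R' ≤ S' → IsPGroup 2 S' → S' ≤ B ⊔ R' →
        ¬ 2 ∣ S'.relIndex (B ⊔ R') →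
        partner B R' S' ≤ V ∧ ((∃ φ : R' →* partner B R' S', Function.Injective φ) ∨
          ¬ 2 ∣ (partner B R' S').relIndex B) := by
    intro R' hR'U hR'p hR'ne hmax S' hR'S' hS'p hS' hS'i
    obtain ⟨-, -, -, -, h5, h6⟩ := main B A R' S' hBeven hA (by rwa [inf_comm]) hR'p
      (hR'U.trans inf_le_left) (hR'U.trans inf_le_right) hR'ne hmax hR'S' hS'p hS' hS'i
    exact ⟨le_inf inf_le_right h5, h6⟩
  have hRcard : Nat.card T ≤ Nat.card R := by
    rcases halt with ⟨φ, hφ⟩ | hfull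
    · exact Nat.card_le_card_of_injective φ hφ
    · rw [← ConjFunctor.card_cj g⁻¹ T]
      refine ConjFunctor.card_le_of_sylow ?_ (ConjFunctor.isPGroup_cj _ hTp) hRA hRp hfull
      refine (cj_mono _ (hT.trans inf_le_left)).trans ?_
      rw [hBdef, ConjFunctor.cj_inv_cj]
  obtain ⟨Rs, hRRs, hRsU, hRsp, hRsi⟩ := ConjFunctor.exists_sylow_above hRU hRp
  have hRscard : Nat.card Rs ≤ Nat.card T := by
    have hne : Rs ≠ ⊥ := fun h => hRne (le_bot_iff.mp (h ▸ hRRs))
    have hmax : ∀ X : Subgroup G, X ≤ A → X ≤ Subgroup.normalizer (B : Set G) → IsPGroup 2 X →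
        Rs ≤ X → X = Rs := fun X hXA hXB hX hle =>
      (ConjFunctor.eq_of_sylow_le (le_inf hXA hXB) hX hle hRsi).symm
    obtain ⟨S', hRS', hS'le, hS'p, hS'i⟩ := ConjFunctor.exists_sylow_above
      (le_sup_right : Rs ≤ B ⊔ Rs) hRsp
    obtain ⟨hpV, h6⟩ := sym Rs hRsU hRsp hne hmax S' hRS' hS'p hS'le hS'i
    have hle : Nat.card (partner B Rs S') ≤ Nat.card T :=
      ConjFunctor.card_le_of_sylow hpV (hS'p.to_le (inf_le_left.trans inf_le_left)) hT hTp hTi
    refine le_trans ?_ hle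
    rcases h6 with ⟨φ, hφ⟩ | hfull
    · exact Nat.card_le_card_of_injective φ hφ
    · rw [← ConjFunctor.card_cj g Rs]
      refine ConjFunctor.card_le_of_sylow ?_ (ConjFunctor.isPGroup_cj _ hRsp) inf_le_right
        (hS'p.to_le (inf_le_left.trans inf_le_left)) hfull
      exact cj_mono g (hRsU.trans inf_le_left)
  have hcards : Nat.card R = Nat.card T :=
    le_antisymm ((Subgroup.card_le_of_le hRRs).trans hRscard) hRcard
  obtain rfl : R = Rs := Subgroup.eq_of_le_of_card_ge hRRs (hRscard.trans hRcard)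
  rcases halt with ⟨φ, hφ⟩ | hRfull
  · exact ⟨(MulEquiv.ofBijective φ
      ((Nat.bijective_iff_injective_and_card φ).mpr ⟨hφ, hcards.symm⟩)).symm⟩
  -- `R` is a Sylow subgroup of `A`
  have hmax : ∀ X : Subgroup G, X ≤ A → X ≤ Subgroup.normalizer (B : Set G) → IsPGroup 2 X →
      R ≤ X → X = R := fun X hXA hXB hX hle =>
    (ConjFunctor.eq_of_sylow_le (le_inf hXA hXB) hX hle hRsi).symm
  have hTR : T ≤ Subgroup.normalizer (R : Set G) := by
    intro t ht
    rw [mem_normalizer_iff]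
    intro r
    have hc : ∀ r ∈ R, t * r * t⁻¹ = r := fun r hr => by
      have h := commutator_mem_commutator ht hr
      rw [hcomm, mem_bot, commutatorElement_eq_one_iff_mul_comm] at h
      rw [h, mul_inv_cancel_right]
    refine ⟨fun hr => by rw [hc r hr]; exact hr, fun hr => ?_⟩
    have h2 := hc _ hr
    have : t * r * t⁻¹ = r := mul_left_cancel (mul_right_cancel h2)
    rwa [this] at hr
  have hTRp : IsPGroup 2 ↥(R ⊔ T) := hSp.to_le (sup_le (inf_le_left.trans inf_le_left) hTS)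
  obtain ⟨S', hRS', hS'le, hS'p, hS'i⟩ := ConjFunctor.exists_sylow_above
    (sup_le le_sup_right ((hT.trans inf_le_left).trans le_sup_left) : R ⊔ T ≤ B ⊔ R) hTRp
  obtain ⟨hpV, h6⟩ := sym R hRU hRp hRne hmax S' (le_sup_left.trans hRS') hS'p hS'le hS'i
  have hpT : partner B R S' = T :=
    hTmax _ inf_le_right (hpV.trans inf_le_right) (hS'p.to_le (inf_le_left.trans inf_le_left))
      (le_inf (le_inf (le_sup_right.trans hRS') hTR) (hT.trans inf_le_left))
  rw [hpT] at h6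
  rcases h6 with ⟨φ, hφ⟩ | hTfull
  · exact ⟨MulEquiv.ofBijective φ
      ((Nat.bijective_iff_injective_and_card φ).mpr ⟨hφ, hcards⟩)⟩
  -- both are Sylow subgroups
  obtain ⟨h, -, hle⟩ := ConjFunctor.exists_conj_le (H := A) (P := cj g⁻¹ T) (Q := R)
    ((cj_mono _ (hT.trans inf_le_left)).trans (by rw [hBdef, ConjFunctor.cj_inv_cj]))
    (ConjFunctor.isPGroup_cj _ hTp) hRA hRp hRfull
  rw [ConjFunctor.cj_cj] at hle
  have heq : cj (h * g⁻¹) T = R :=
    Subgroup.eq_of_le_of_card_ge hle (by rw [ConjFunctor.card_cj, hcards])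
  exact ⟨(MulEquiv.subgroupCongr heq.symm).trans
    (T.equivMapOfInjective _ (MulAut.conj (h * g⁻¹)).injective).symm⟩

end Cfsg.Agent.Lib.TightPair
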